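import Mathlib.CategoryTheory.FiberedCategory.Fibered
import Mathlib.CategoryTheory.FiberedCategory.Fiber
import Mathlib.CategoryTheory.Groupoid
import Mathlib.CategoryTheory.Sites.Canonical
import Mathlib.CategoryTheory.Sites.Closed
import Mathlib.CategoryTheory.Sites.Sheafification
import Mathlib.CategoryTheory.Sites.LeftExact
import Mathlib.CategoryTheory.Sites.CoverLifting
import Mathlib.CategoryTheory.Functor.KanExtension.Adjunction

set_option autoImplicit false

open CategoryTheory CategoryTheory.Limits Opposite Functor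

namespace Groth.Agent.SGA4Small

universe v₁ v₂ u₁ u₂ u v

section Fib

variable {B : Type u₁} [Category.{v₁} B] {E : Type u₂} [Category.{v₂} E] (p : E ⥤ B)

lemma map_fiber {b : B} {x y : p.Fiber b} (f : x ⟶ y) :
    p.map f.1 = eqToHom x.2 ≫ eqToHom y.2.symm := by
  have := f.2
  simpa using IsHomLift.fac' p (𝟙 b) f.1

theorem faithful_iff [p.IsFibered] :
    p.Faithful ↔ ∀ (b : B) (x y : p.Fiber b), Subsingleton (x ⟶ y) := by
  refine ⟨fun _ b x y => ⟨fun f g => Subtype.ext (p.map_injective (by rw [map_fiber, map_fiber]))⟩,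
    fun h => ⟨fun {a c} f g hfg => ?_⟩⟩
  obtain ⟨a', ψ, hψ⟩ := IsPreFibered.exists_isCartesian p (rfl : p.obj c = p.obj c) (p.map f)
  haveI hf : IsHomLift p (p.map f) f := IsHomLift.map p f
  haveI hg : IsHomLift p (p.map f) g := by rw [hfg]; exact IsHomLift.map p g
  let m₁ := IsCartesian.map p (p.map f) ψ f
  let m₂ := IsCartesian.map p (p.map f) ψ g
  have e : m₁ = m₂ := congrArg Subtype.val ((h (p.obj a) ⟨a, rfl⟩
    ⟨a', IsHomLift.domain_eq p (p.map f) ψ⟩).elim ⟨m₁, inferInstance⟩ ⟨m₂, inferInstance⟩)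
  rw [← IsCartesian.fac p (p.map f) ψ f, ← IsCartesian.fac p (p.map f) ψ g]
  exact congrArg (· ≫ ψ) e

theorem reflectsIso_iff [p.IsFibered] :
    p.ReflectsIsomorphisms ↔ ∀ b : B, IsGroupoid (p.Fiber b) := by
  refine ⟨fun _ b => ⟨fun {x y} f => ?_⟩, fun h => ⟨fun {a c} f hf => ?_⟩⟩
  · haveI : IsIso (p.map f.1) := by rw [map_fiber]; infer_instance
    haveI : IsIso f.1 := isIso_of_reflects_iso f.1 p
    haveI := f.2
    haveI : IsHomLift p (𝟙 b) (CategoryTheory.inv f.1) := by
      have := IsHomLift.inv p (𝟙 b) f.1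
      rwa [IsIso.inv_id] at this
    exact ⟨⟨CategoryTheory.inv f.1, inferInstance⟩, Subtype.ext (IsIso.hom_inv_id f.1),
      Subtype.ext (IsIso.inv_hom_id f.1)⟩
  · obtain ⟨a', ψ, hψ⟩ := IsPreFibered.exists_isCartesian p (rfl : p.obj c = p.obj c) (p.map f)
    haveI := IsHomLift.map p f
    haveI : IsIso ψ := IsStronglyCartesian.isIso_of_base_isIso p (p.map f) ψ
    let m := IsCartesian.map p (p.map f) ψ f
    haveI := h (p.obj a)
    let xa : p.Fiber (p.obj a) := ⟨a, rfl⟩
    let xb : p.Fiber (p.obj a) := ⟨a', IsHomLift.domain_eq p (p.map f) ψ⟩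
    let mm : xa ⟶ xb := ⟨m, IsCartesian.map_isHomLift p (p.map f) ψ f⟩
    haveI : IsIso m := inferInstanceAs (IsIso ((Fiber.fiberInclusion (p := p)).map mm))
    rw [← IsCartesian.fac p (p.map f) ψ f]
    infer_instance

end Fib

theorem bot_canonical {C : Type u} [Category.{v} C] (X : C) :
    (⊥ : Sieve X) ∈ Sheaf.canonicalTopology C X ↔
      (Nonempty (IsInitial X) ∧ ∀ (Y : C) (f : Y ⟶ X), IsIso f) := by
  constructor
  · intro h
    have init : ∀ (Y : C) (_ : Y ⟶ X), Nonempty (IsInitial Y) := fun Y f => by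
      have hY : (⊥ : Sieve X).pullback f ∈ Sheaf.canonicalTopology C Y :=
        (Sheaf.canonicalTopology C).pullback_stable f h
      have hu : ∀ W : C, ∃! t : Y ⟶ W, True := fun W => by
        obtain ⟨t, -, ht⟩ := Sheaf.sheaf_for_finestTopology (Set.range yoneda.obj) ⟨W, rfl⟩ _ hY
          (fun Z g hg => hg.elim) (fun Y₁ Y₂ Z g₁ g₂ f₁ f₂ h₁ => h₁.elim)
        exact ⟨t, trivial, fun t' _ => ht t' fun Z g hg => hg.elim⟩
      exact ⟨IsInitial.ofUniqueHom (fun W => (hu W).choose)
        fun W m => (hu W).choose_spec.2 m trivial⟩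
    obtain ⟨hX⟩ := init X (𝟙 X)
    refine ⟨⟨hX⟩, fun Y f => ?_⟩
    obtain ⟨hY⟩ := init Y f
    exact ⟨hX.to Y, hY.hom_ext _ _, hX.hom_ext _ _⟩
  · rintro ⟨⟨hX⟩, hiso⟩
    refine Sheaf.mem_finestTopology_of_forall_isSheafFor ?_
    rintro _ ⟨W, rfl⟩ Y f x -
    haveI := hiso Y f
    have hY : IsInitial Y := hX.ofIso (asIso f).symm
    exact ⟨hY.to W, fun Z g hg => hg.elim, fun t _ => hY.hom_ext _ _⟩

theorem isInitial_iff {C : Type u} [SmallCategory C] (J : GrothendieckTopology C) (X : C) :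
    Nonempty (IsInitial ((presheafToSheaf J (Type u)).obj (yoneda.obj X))) ↔
      (⊥ : Sieve X) ∈ J X := by
  let e : ∀ F : Sheaf J (Type u),
      ((presheafToSheaf J (Type u)).obj (yoneda.obj X) ⟶ F) ≃ F.obj.obj (op X) := fun F =>
    ((sheafificationAdjunction J (Type u)).homEquiv _ F).trans yonedaEquiv
  constructor
  · rintro ⟨hi⟩
    let Ω : Sheaf J (Type u) :=
      ⟨(Functor.closedSieves J).toFunctor, (isSheaf_iff_isSheaf_of_type J _).2 (classifier_isSheaf J)⟩
    have h1 : ∀ a b : Ω.obj.obj (op X), a = b := fun a b =>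
      (e Ω).symm.injective (hi.hom_ext _ _)
    rw [← J.close_eq_top_iff_mem]
    exact congrArg Subtype.val (h1 ⟨J.close ⊥, J.close_isClosed _⟩
      ⟨(⊤ : Sieve X), fun _ _ _ => trivial⟩)
  · intro h
    refine ⟨IsInitial.ofUniqueHom (fun F => (e F).symm
      ((((isSheaf_iff_isSheaf_of_type J _).1 F.property) ⊥ h).amalgamate
        (fun Z g hg => hg.elim) (fun Y₁ Y₂ Z g₁ g₂ f₁ f₂ h₁ => h₁.elim))) fun F m => ?_⟩
    apply (e F).injective
    rw [Equiv.apply_symm_apply]
    exact (((isSheaf_iff_isSheaf_of_type J _).1 F.property) ⊥ h).isSeparatedFor.ext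
      fun Z g hg => hg.elim

theorem cocontinuous {C : Type u} [SmallCategory C] {C' : Type u} [SmallCategory C']
    (J : GrothendieckTopology C) (J' : GrothendieckTopology C') (F : C ⥤ C')
    (h : ∀ G : Sheaf J (Type u), Presheaf.IsSheaf J' ((F.op.ran).obj G.obj)) :
    F.IsCocontinuous J J' := by
  refine ⟨fun {U S} hS => ?_⟩
  let Ω : Sheaf J (Type u) :=
    ⟨(Functor.closedSieves J).toFunctor, (isSheaf_iff_isSheaf_of_type J _).2 (classifier_isSheaf J)⟩
  let adj := F.op.ranAdjunction (Type u)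
  let W := ((whiskeringLeft Cᵒᵖ C'ᵒᵖ (Type u)).obj F.op).obj (yoneda.obj (F.obj U))
  let χ : W ⟶ Ω.obj :=
    { app := fun V => ↾fun g => ⟨J.close ((S.pullback g).functorPullback F), J.close_isClosed _⟩
      naturality := fun V V' k => by
        ext g
        refine Subtype.ext ?_
        show J.close ((S.pullback (F.map k.unop ≫ g)).functorPullback F) =
          (J.close ((S.pullback g).functorPullback F)).pullback k.unop
        rw [← J.pullback_close]
        congr 1
        ext Z l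
        show S (F.map l ≫ F.map k.unop ≫ g) ↔ S (F.map (l ≫ k.unop) ≫ g)
        rw [F.map_comp, Category.assoc] }
  let τ : W ⟶ Ω.obj :=
    { app := fun V => ↾fun _ => ⟨(⊤ : Sieve V.unop), fun _ _ _ => trivial⟩
      naturality := fun V V' k => by
        ext g
        exact Subtype.ext (Sieve.pullback_top).symm }
  have key : χ = τ := by
    apply (adj.homEquiv (yoneda.obj (F.obj U)) Ω.obj).injective
    have hsh : Presieve.IsSheafFor ((F.op.ran).obj Ω.obj) (S : Presieve (F.obj U)) :=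
      (isSheaf_iff_isSheaf_of_type J' _).1 (h Ω) S hS
    rw [Presieve.isSheafFor_iff_yonedaSheafCondition] at hsh
    refine (hsh (S.functorInclusion ≫ adj.homEquiv _ _ χ)).unique rfl ?_
    rw [← adj.homEquiv_naturality_left, ← adj.homEquiv_naturality_left]
    congr 1
    ext V g
    refine Subtype.ext ?_
    show (⊤ : Sieve V.unop) = J.close ((S.pullback g.1).functorPullback F)
    have hg : S g.1 := g.2
    rw [Sieve.pullback_eq_top_of_mem _ hg, Sieve.functorPullback_top]
    exact ((J.close_eq_top_iff_mem _).2 (J.top_mem _)).symm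
  have h1 := congrArg Subtype.val
    (congrArg (fun φ : W ⟶ Ω.obj => φ.app (op U) (𝟙 (F.obj U))) key)
  have h2 : J.close ((S.pullback (𝟙 (F.obj U))).functorPullback F) = ⊤ := h1
  rwa [Sieve.pullback_id, J.close_eq_top_iff_mem] at h2

end Groth.Agent.SGA4Small
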